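import Cfsg.Agent.Classical.MTwentyTwo.Data
import Cfsg.Agent.Golay.M22Block
import Cfsg.Agent.Golay.Conj

/-! The stabiliser of two points has no subgroup of index 56 or 210. -/

set_option autoImplicit false
set_option maxRecDepth 100000
set_option linter.style.haveILetI false

namespace Cfsg.Lib.Classical.MTwentyTwo

open Cfsg Cfsg.Lib.PermCert Cfsg.Lib.Golay Cfsg.Lib.Golay.M22Block Cfsg.Lib.Golay.FusionCert Subgroup

/-- A permutation of prime order acts on the fixed points of one commuting with it. -/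
theorem fix_modEq {s : ℕ} [Fact s.Prime] {a b : Equiv.Perm GolayPt} (ha : orderOf a = s) (hab : a * b = b * a) :
    (fixPts b).card ≡ (fixPts a ∩ fixPts b).card [MOD s] := by
  have hinv : ∀ t, a t ∈ fixPts b ↔ t ∈ fixPts b := fun t => by
    rw [mem_fixPts, mem_fixPts, ← Equiv.Perm.mul_apply, ← hab, Equiv.Perm.mul_apply,
      EmbeddingLike.apply_eq_iff_eq]
  have hσ : (a.subtypePerm hinv) ^ s ^ 1 = 1 := by
    rw [pow_one]
    exact Equiv.ext fun t => Subtype.ext (by
      rw [Equiv.Perm.subtypePerm_pow, Equiv.Perm.subtypePerm_apply]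
      simp [← ha, pow_orderOf_eq_one])
  have h1 := (Equiv.Perm.card_compl_support_modEq hσ).symm
  rw [Fintype.card_coe] at h1
  refine h1.trans ?_
  show _ % s = _ % s
  congr 1
  refine Finset.card_bij (fun t _ => (t : GolayPt)) (fun t ht => ?_) (fun t _ t' _ e => Subtype.ext e) fun t ht => ?_
  · rw [Finset.mem_compl, Equiv.Perm.mem_support, not_not] at ht
    exact Finset.mem_inter.mpr ⟨mem_fixPts.mpr (congrArg Subtype.val ht), t.2⟩
  · obtain ⟨h2, h3⟩ := Finset.mem_inter.mp ht
    refine ⟨⟨t, h3⟩, ?_, rfl⟩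
    rw [Finset.mem_compl, Equiv.Perm.mem_support, not_not]
    exact Subtype.ext (mem_fixPts.mp h2)

/-- Elements of order 5, 7 and 11 are self-centralising up to their own prime. -/
theorem card_centralizer {q : ℕ} [Fact q.Prime] (hq : q = 5 ∨ q = 7 ∨ q = 11) {y : Spor.M22} (hy : orderOf y = q) :
    Nat.card (centralizer ({y} : Set Spor.M22)) = q := by
  obtain ⟨n, hn⟩ : ∃ n, Nat.card (centralizer ({y} : Set Spor.M22)) = q ^ n := by
    refine ⟨_, Nat.eq_prime_pow_of_unique_prime_dvd Nat.card_pos.ne' fun {r} hr hrd => ?_⟩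
    have := Fact.mk hr
    obtain ⟨⟨x, hxc⟩, hx⟩ := exists_prime_orderOf_dvd_card' r hrd
    rw [← orderOf_coe] at hx
    change orderOf x = r at hx
    have hxy : (x : Equiv.Perm GolayPt) * y = y * x :=
      congrArg Subtype.val (mem_centralizer_singleton_iff.mp hxc)
    have hxo : orderOf (x : Equiv.Perm GolayPt) = r := by rw [orderOf_coe]; exact hx
    have hyo : orderOf (y : Equiv.Perm GolayPt) = q := by rw [orderOf_coe]; exact hy
    rcases hq with rfl | h711
    swap
    · exact prime_eq_of_commute (Fact.out : q.Prime) y.2 x.2 hxy hyo h711 hr hxo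
    have hfy : (fixPts (y : Equiv.Perm GolayPt)).card = 4 := by
      rcases card_fixPts_prime y.2 (Fact.out : Nat.Prime 5) hyo with ⟨e, h⟩ | ⟨e, h⟩ | ⟨e, h⟩ | ⟨e, h⟩ | ⟨e, h⟩ <;>
        first | exact h | omega
    have hA := fix_modEq (s := 5) hyo hxy.symm
    have hB := fix_modEq (s := r) hxo hxy
    rw [Finset.inter_comm] at hA
    have hlx : (fixPts (x : Equiv.Perm GolayPt) ∩ fixPts (y : Equiv.Perm GolayPt)).card ≤ 4 :=
      hfy ▸ Finset.card_le_card Finset.inter_subset_right
    rw [hfy] at hB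
    rcases card_fixPts_prime x.2 hr hxo with ⟨e, h⟩ | ⟨e, h⟩ | ⟨e, h⟩ | ⟨e, h⟩ | ⟨e, h⟩
    · subst e; rw [h] at hA; unfold Nat.ModEq at hA hB; omega
    · subst e; rw [h] at hA; unfold Nat.ModEq at hA hB
      have h2le : 2 ≤ (fixPts (x : Equiv.Perm GolayPt) ∩ fixPts (y : Equiv.Perm GolayPt)).card := by
        refine le_trans ?_ (Finset.card_le_card (s := {none, some 0}) fun t ht => ?_)
        · rw [Finset.card_pair (by simp)]
        · rcases Finset.mem_insert.mp ht with rfl | ht
          · exact Finset.mem_inter.mpr ⟨mem_fixPts.mpr (apply_none_zero x.2).1, mem_fixPts.mpr (apply_none_zero y.2).1⟩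
          · rw [Finset.mem_singleton] at ht
            subst ht
            exact Finset.mem_inter.mpr ⟨mem_fixPts.mpr (apply_none_zero x.2).2, mem_fixPts.mpr (apply_none_zero y.2).2⟩
      omega
    · exact e
    all_goals
      subst e
      exact absurd (prime_eq_of_commute hr x.2 y.2 hxy.symm hxo (by norm_num)
        (Fact.out : Nat.Prime 5) hyo) (by norm_num)
  have hd : Nat.card (centralizer ({y} : Set Spor.M22)) ∣ 443520 := by
    rw [← card_M22]; exact card_subgroup_dvd_card _
  have hge : q ∣ Nat.card (centralizer ({y} : Set Spor.M22)) := by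
    rw [← hy, ← Nat.card_zpowers]
    exact card_dvd_of_le (zpowers_le.mpr (mem_centralizer_singleton_iff.mpr rfl))
  rw [hn] at hd hge ⊢
  have hf : (443520 : ℕ).factorization q = 1 := by
    rcases hq with rfl | rfl | rfl
    · exact factorization_M22.2.2.1
    · exact factorization_M22.2.2.2.1
    · exact factorization_M22.2.2.2.2
  have hn1 : n ≤ 1 := hf ▸ ((Fact.out : q.Prime).pow_dvd_iff_le_factorization (by norm_num)).mp hd
  rcases Nat.le_one_iff_eq_zero_or_eq_one.mp hn1 with rfl | rfl
  · exact absurd (Nat.eq_one_of_dvd_one (pow_zero q ▸ hge)) (Fact.out : q.Prime).one_lt.ne'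
  · rw [pow_one]

/-- The two constraints on a Sylow normaliser of prime order. -/
theorem normalizer_facts {G : Type*} [Group G] [Finite G] {q : ℕ} [Fact q.Prime] {y : G} (hy : orderOf y = q)
    (hcop : ¬ q * q ∣ Nat.card G) :
    Nat.card (normalizer (zpowers y : Set G)) * (normalizer (zpowers y : Set G)).index = Nat.card G ∧
      (normalizer (zpowers y : Set G)).index % q = 1 ∧ q ∣ Nat.card (normalizer (zpowers y : Set G)) := by
  have hc : Nat.card (zpowers y) = q := by rw [Nat.card_zpowers, hy]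
  have hne : Nat.card G ≠ 0 := Nat.card_pos.ne'
  have hqd : q ∣ Nat.card G := hc ▸ card_subgroup_dvd_card _
  have hf : (Nat.card G).factorization q = 1 := by
    have h1 := ((Fact.out : q.Prime).pow_dvd_iff_le_factorization (k := 1) hne).mp (by rwa [pow_one])
    have h2 : ¬ 2 ≤ (Nat.card G).factorization q := fun h => hcop (by
      rw [← pow_two]; exact ((Fact.out : q.Prime).pow_dvd_iff_le_factorization hne).mpr h)
    omega
  let P : Sylow q G := Sylow.ofCard (zpowers y) (by rw [hc, hf, pow_one])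
  have h1 := Sylow.card_eq_index_normalizer P
  have h2 := card_sylow_modEq_one q G
  rw [h1] at h2
  refine ⟨card_mul_index _, ?_, ?_⟩
  · rwa [Nat.ModEq, Nat.mod_eq_of_lt (Fact.out : q.Prime).one_lt] at h2
  · calc q = Nat.card (zpowers y) := hc.symm
      _ ∣ _ := card_dvd_of_le le_normalizer

theorem normalizer_bound {q : ℕ} [Fact q.Prime] (hq : q = 5 ∨ q = 7 ∨ q = 11) {y : Spor.M22} (hy : orderOf y = q) :
    Nat.card (normalizer (zpowers y : Set Spor.M22)) ∣ q * (q - 1) := by
  set N := normalizer (zpowers y : Set Spor.M22)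
  let φ := (zpowers y).normalizerMonoidHom
  have hker : Nat.card φ.ker ∣ q := by
    rw [← card_centralizer hq hy]
    refine (card_dvd_of_injective ((N.subtype.comp φ.ker.subtype).codRestrict _ fun a => ?_) ?_)
    · refine mem_centralizer_singleton_iff.mpr ?_
      have h := congrArg (fun f : MulAut (zpowers y) => ((f ⟨y, mem_zpowers y⟩ : zpowers y) : Spor.M22))
        (MonoidHom.mem_ker.mp a.2)
      exact mul_inv_eq_iff_eq_mul.mp h
    · exact fun a b h => Subtype.ext (Subtype.ext (congrArg Subtype.val h :))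
  have hrange : Nat.card φ.range ∣ q - 1 := by
    have hc : Nat.card (zpowers y) = q := by rw [Nat.card_zpowers, hy]
    have h := card_subgroup_dvd_card φ.range
    rw [IsCyclic.card_mulAut, hc, Nat.totient_prime (Fact.out : q.Prime)] at h
    exact h
  rw [card_eq_card_quotient_mul_card_subgroup φ.ker, mul_comm,
    Nat.card_congr (QuotientGroup.quotientKerEquivRange φ).toEquiv]
  exact Nat.mul_dvd_mul hker hrange

/-- The check for the data. -/
def dataOK : Bool :=
  [eleven, elevenConj, fiveConj].all wOK && isId 24 (List.replicate 11 eleven) && !isId 24 [eleven] &&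
    isId 24 (List.replicate 5 elevenConj) && !isId 24 [elevenConj] &&
    same [elevenConj, eleven, pinv elevenConj] (List.replicate 3 eleven) &&
    same [fiveConj, elevenConj, pinv fiveConj] (List.replicate 3 elevenConj) &&
    decide ((topGens (m24PointChain.drop 2)).length = words.length) &&
    ((topGens (m24PointChain.drop 2)).zip words).all fun p => valid 24 p.1 && p.2.all (fun k => decide (k < 6)) &&
      same [p.1] (p.2.map fun k => [eleven, elevenConj, fiveConj, pinv eleven, pinv elevenConj, pinv fiveConj].getD k eleven)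

theorem data_ok : dataOK = true := by decide +kernel

theorem toP_word {w : List PP} : (w.map fun g => toP g).prod = permHom (wperm 24 w) := by
  rw [wperm, map_list_prod, List.map_map]; rfl

theorem toP_eq_of_same {w v : List PP} (hw : ∀ g ∈ w, valid 24 g = true) (hv : ∀ g ∈ v, valid 24 g = true)
    (h : same w v = true) : (w.map fun g => toP g).prod = (v.map fun g => toP g).prod := by
  rw [toP_word, toP_word, same_sound hw hv h]

/-- No subgroup of index 56 or 210. -/
theorem main (H : Subgroup Spor.M22) : H.index ≠ 56 ∧ H.index ≠ 210 := by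
  classical
  haveI : Fact (Nat.Prime 11) := ⟨by norm_num⟩
  haveI : Fact (Nat.Prime 5) := ⟨by norm_num⟩
  have hd := data_ok
  simp only [dataOK, Bool.and_eq_true, List.all_eq_true, Bool.not_eq_true', decide_eq_true_eq] at hd
  obtain ⟨⟨⟨⟨⟨⟨⟨⟨hw, hy11⟩, hy1⟩, ht5⟩, ht1⟩, hty⟩, hut⟩, hlen⟩, hgens⟩ := hd
  have hwy : wOK eleven = true := hw _ List.mem_cons_self
  have hwt : wOK elevenConj = true := hw _ (List.mem_cons_of_mem _ List.mem_cons_self)
  have hwu : wOK fiveConj = true := hw _ (List.mem_cons_of_mem _ (List.mem_cons_of_mem _ List.mem_cons_self))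
  let y₀ : Spor.M22 := ⟨toP eleven, mem_M22_of_wOK hwy⟩
  let t₀ : Spor.M22 := ⟨toP elevenConj, mem_M22_of_wOK hwt⟩
  let u₀ : Spor.M22 := ⟨toP fiveConj, mem_M22_of_wOK hwu⟩
  have hord : ∀ {s : PP} (hs : wOK s = true) {q : ℕ} [Fact q.Prime], isId 24 (List.replicate q s) = true →
      isId 24 [s] = false → orderOf (⟨toP s, mem_M22_of_wOK hs⟩ : Spor.M22) = q := by
    intro s hs q _ h1 h2
    have hv := valid_of_wOK hs
    rw [← orderOf_coe]
    refine orderOf_eq_prime ?_ fun e => ?_
    · have h0 := congrArg permHom (isId_sound (fun g hg => by rw [List.eq_of_mem_replicate hg]; exact hv) h1)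
      rwa [wperm_replicate, map_pow, map_one] at h0
    · have h0 : wperm 24 [s] = wperm 24 [] := permHom.injective (by
        simpa [wperm, toP] using e)
      have h := same_of_eq (by simp [hv]) (by simp) h0
      rw [show same [s] [] = isId 24 [s] from rfl, h2] at h
      exact Bool.false_ne_true h
  have hy : orderOf y₀ = 11 := hord hwy hy11 hy1
  have ht : orderOf t₀ = 5 := hord hwt ht5 ht1
  have vinv : ∀ {s : PP}, wOK s = true → valid 24 (pinv s) = true := fun h => valid_pinv (valid_of_wOK h)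
  have toPinv : ∀ {s : PP}, wOK s = true → toP (pinv s) = (toP s)⁻¹ := fun h => by
    rw [toP, toP, perm_pinv (valid_of_wOK h), map_inv]
  have hconj : ∀ {a b : PP} (ha : wOK a = true) (hb : wOK b = true), same [a, b, pinv a] (List.replicate 3 b) = true →
      (⟨toP a, mem_M22_of_wOK ha⟩ : Spor.M22) * ⟨toP b, mem_M22_of_wOK hb⟩ * (⟨toP a, mem_M22_of_wOK ha⟩ : Spor.M22)⁻¹ =
        (⟨toP b, mem_M22_of_wOK hb⟩ : Spor.M22) ^ 3 := by
    intro a b ha hb h
    have h0 := toP_eq_of_same (w := [a, b, pinv a]) (v := List.replicate 3 b)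
      (by simp [valid_of_wOK ha, valid_of_wOK hb, vinv ha])
      (fun g hg => by rw [List.eq_of_mem_replicate hg]; exact valid_of_wOK hb) h
    simp only [List.map_cons, List.map_nil, List.prod_cons, List.prod_nil, mul_one, toPinv ha, List.map_replicate,
      List.prod_replicate] at h0
    exact Subtype.ext (by simpa [mul_assoc] using h0)
  -- the normalisers
  have hnorm : ∀ {G : Type} [Group G] [Finite G] {a b : G}, a * b * a⁻¹ = b ^ 3 → a ∈ normalizer (zpowers b : Set G) := by
    intro G _ _ a b h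
    have hle : (zpowers b).map (MulAut.conj a).toMonoidHom ≤ zpowers b := by
      rw [MonoidHom.map_zpowers, zpowers_le]
      show a * b * a⁻¹ ∈ zpowers b
      rw [h]; exact pow_mem (mem_zpowers b) 3
    have heq := eq_of_le_of_card_ge hle (card_map_of_injective (MulAut.conj a).injective).ge
    rw [mem_normalizer_iff]
    intro z
    refine ⟨fun hz => hle ⟨z, hz, rfl⟩, fun hz => ?_⟩
    rw [← heq] at hz
    obtain ⟨w, hw, e⟩ := hz
    rwa [show z = w from mul_left_cancel (mul_right_cancel e.symm)]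
  have htN : t₀ ∈ normalizer (zpowers y₀ : Set Spor.M22) := hnorm (hconj hwt hwy hty)
  have huN : u₀ ∈ normalizer (zpowers t₀ : Set Spor.M22) := hnorm (hconj hwu hwt hut)
  have hgen : ∀ K : Subgroup Spor.M22, y₀ ∈ K → t₀ ∈ K → u₀ ∈ K → K = ⊤ := by
    intro K h1 h2 h3
    have hK : Spor.M22 ≤ K.map Spor.M22.subtype := by
      conv_lhs => rw [M22_eq, onPts, grp, MonoidHom.map_closure]
      rw [closure_le]
      rintro _ ⟨_, ⟨s, hs, rfl⟩, rfl⟩
      obtain ⟨i, hi, rfl⟩ := List.getElem_of_mem hs
      have hmem : ((topGens (m24PointChain.drop 2))[i], words[i]'(hlen ▸ hi)) ∈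
          (topGens (m24PointChain.drop 2)).zip words := by
        rw [← List.getElem_zip]; exact List.getElem_mem (by simp [hlen ▸ hi, hi])
      obtain ⟨⟨hv, hk⟩, hsame⟩ := hgens _ hmem
      have hval : ∀ g ∈ [eleven, elevenConj, fiveConj, pinv eleven, pinv elevenConj, pinv fiveConj],
          valid 24 g = true ∧ toP g ∈ K.map Spor.M22.subtype := by
        simp only [List.forall_mem_cons, List.not_mem_nil, IsEmpty.forall_iff, implies_true, and_true,
          toPinv hwy, toPinv hwt, toPinv hwu]
        exact ⟨⟨valid_of_wOK hwy, y₀, h1, rfl⟩, ⟨valid_of_wOK hwt, t₀, h2, rfl⟩, ⟨valid_of_wOK hwu, u₀, h3, rfl⟩,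
          ⟨vinv hwy, inv_mem ⟨y₀, h1, rfl⟩⟩, ⟨vinv hwt, inv_mem ⟨t₀, h2, rfl⟩⟩, vinv hwu, inv_mem ⟨u₀, h3, rfl⟩⟩
      have hget : ∀ k ∈ words[i]'(hlen ▸ hi),
          [eleven, elevenConj, fiveConj, pinv eleven, pinv elevenConj, pinv fiveConj].getD k eleven ∈
            [eleven, elevenConj, fiveConj, pinv eleven, pinv elevenConj, pinv fiveConj] := by
        intro k hk'
        have h6 := hk k hk'
        rw [List.getD_eq_getElem _ _ (by simpa using h6)]
        exact List.getElem_mem _
      have h0 := toP_eq_of_same (w := [(topGens (m24PointChain.drop 2))[i]]) (by simpa using hv)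
        (fun g hg => by obtain ⟨k, hk', rfl⟩ := List.mem_map.mp hg; exact (hval _ (hget k hk')).1) hsame
      simp only [List.map_cons, List.map_nil, List.prod_cons, List.prod_nil, mul_one] at h0
      show toP (topGens (m24PointChain.drop 2))[i] ∈ K.map Spor.M22.subtype
      rw [h0]
      refine list_prod_mem fun g hg => ?_
      obtain ⟨_, hg', rfl⟩ := List.mem_map.mp hg
      obtain ⟨k, hk', rfl⟩ := List.mem_map.mp hg'
      exact (hval _ (hget k hk')).2
    rw [eq_top_iff]
    intro z _
    obtain ⟨w, hw, e⟩ := hK z.2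
    rwa [show z = w from Subtype.ext e.symm]
  -- the order of a subgroup with the given index
  suffices h : ∀ K : Subgroup Spor.M22, Nat.card K = 7920 ∨ Nat.card K = 2112 → False by
    have h1 := H.card_mul_index
    rw [card_M22] at h1
    constructor <;> intro e <;> rw [e] at h1 <;> exact h H (by omega)
  intro K hK
  obtain ⟨⟨y, hyK⟩, hy'⟩ := exists_prime_orderOf_dvd_card' (G := K) 11 (by
    rcases hK with e | e <;> rw [e] <;> norm_num)
  rw [← orderOf_coe] at hy'
  change orderOf y = 11 at hy'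
  -- conjugate so that the standard element lies in the subgroup
  have hcardG : Nat.card Spor.M22 = 443520 := card_M22
  have hcop11 : ¬ 11 * 11 ∣ Nat.card Spor.M22 := by rw [hcardG]; norm_num
  have hf11 : (Nat.card Spor.M22).factorization 11 = 1 := by rw [hcardG]; exact factorization_M22.2.2.2.2
  let P : Sylow 11 Spor.M22 := Sylow.ofCard (zpowers y) (by rw [Nat.card_zpowers, hy', hf11, pow_one])
  let P₀ : Sylow 11 Spor.M22 := Sylow.ofCard (zpowers y₀) (by rw [Nat.card_zpowers, hy, hf11, pow_one])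
  obtain ⟨g, hg⟩ := MulAction.exists_smul_eq Spor.M22 P P₀
  let L : Subgroup Spor.M22 := K.map (MulAut.conj g).toMonoidHom
  have hLc : Nat.card L = Nat.card K := card_map_of_injective (MulAut.conj g).injective
  have hyL : y₀ ∈ L := by
    have h0 : y₀ ∈ (g • P : Sylow 11 Spor.M22) := hg ▸ mem_zpowers y₀
    obtain ⟨z, hz, e⟩ := h0
    exact ⟨z, zpowers_le.mpr hyK hz, e⟩
  -- the normaliser in the subgroup
  have hLnorm : ∀ {q : ℕ} [Fact q.Prime] {b : Spor.M22}, b ∈ L → orderOf b = q → ¬ q * q ∣ Nat.card L →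
      ∃ n m, n * m = Nat.card L ∧ m % q = 1 ∧ q ∣ n ∧ n ∣ Nat.card (normalizer (zpowers b : Set Spor.M22)) ∧
        (n = Nat.card (normalizer (zpowers b : Set Spor.M22)) → normalizer (zpowers b : Set Spor.M22) ≤ L) := by
    intro q _ b hb hbo hcop
    let b' : L := ⟨b, hb⟩
    obtain ⟨h1, h2, h3⟩ := normalizer_facts (y := b') (by rw [← orderOf_coe]; exact hbo) hcop
    set N' := normalizer (zpowers b' : Set L)
    have hle : N'.map L.subtype ≤ normalizer (zpowers b : Set Spor.M22) := by
      refine (le_normalizer_map L.subtype).trans (le_of_eq ?_)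
      rw [MonoidHom.map_zpowers]
      rfl
    have hc : Nat.card (N'.map L.subtype) = Nat.card N' := card_map_of_injective L.subtype_injective
    refine ⟨_, _, h1, h2, h3, hc ▸ card_dvd_of_le hle, fun e => ?_⟩
    rw [← eq_of_le_of_card_ge hle (by rw [hc, e])]
    exact map_subtype_le _
  have hN11 : Nat.card (normalizer (zpowers y₀ : Set Spor.M22)) = 55 := by
    obtain ⟨h1, h2, h3⟩ := normalizer_facts hy hcop11
    have h4 := normalizer_bound (q := 11) (Or.inr (Or.inr rfl)) hy
    rw [hcardG] at h1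
    generalize Nat.card (normalizer (zpowers y₀ : Set Spor.M22)) = n at h1 h3 h4 ⊢
    generalize (normalizer (zpowers y₀ : Set Spor.M22)).index = m at h1 h2
    obtain ⟨k, rfl⟩ := h3
    have h5 : k ∣ 10 := Nat.dvd_of_mul_dvd_mul_left (by norm_num : 0 < 11) (by simpa using h4)
    have h6 : k ≤ 10 := Nat.le_of_dvd (by norm_num) h5
    interval_cases k <;> omega
  rw [← hLc] at hK
  obtain ⟨n, m, h1, h2, h3, h4, h5⟩ := hLnorm hyL hy (by rcases hK with e | e <;> rw [e] <;> norm_num)
  rw [hN11] at h4 h5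
  obtain ⟨k, rfl⟩ := h3
  have hk : k ∣ 5 := Nat.dvd_of_mul_dvd_mul_left (by norm_num : 0 < 11) (by simpa using h4)
  rcases (Nat.dvd_prime (by norm_num)).mp hk with rfl | rfl
  · rcases hK with e | e <;> rw [e] at h1 <;> omega
  rcases hK with hK | hK <;> [skip; (rw [hK] at h1; omega)]
  have htL : t₀ ∈ L := h5 rfl htN
  have hcopL : ¬ 5 * 5 ∣ Nat.card L := by rw [hK]; norm_num
  have hN5 : Nat.card (normalizer (zpowers t₀ : Set Spor.M22)) = 20 := by
    obtain ⟨h1, h2, h3⟩ := normalizer_facts ht (by rw [hcardG]; norm_num)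
    have h4 := normalizer_bound (q := 5) (Or.inl rfl) ht
    rw [hcardG] at h1
    generalize Nat.card (normalizer (zpowers t₀ : Set Spor.M22)) = n at h1 h3 h4 ⊢
    generalize (normalizer (zpowers t₀ : Set Spor.M22)).index = m at h1 h2
    obtain ⟨k, rfl⟩ := h3
    have h5 : k ∣ 4 := Nat.dvd_of_mul_dvd_mul_left (by norm_num : 0 < 5) (by simpa using h4)
    have h6 : k ≤ 4 := Nat.le_of_dvd (by norm_num) h5
    interval_cases k <;> omega
  obtain ⟨n', m', g1, g2, g3, g4, g5⟩ := hLnorm htL ht hcopL
  rw [hN5] at g4 g5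
  obtain ⟨k', rfl⟩ := g3
  have hk' : k' ∣ 4 := Nat.dvd_of_mul_dvd_mul_left (by norm_num : 0 < 5) (by simpa using g4)
  have h6 : k' ≤ 4 := Nat.le_of_dvd (by norm_num) hk'
  rw [hK] at g1
  have hk4 : k' = 4 := by interval_cases k' <;> omega
  subst hk4
  have htop := hgen L hyL htL (g5 rfl huN)
  rw [htop, card_top, hcardG] at hK
  omega

theorem s1606 {p q : GolayPt} (hpq : p ≠ q)
    (H : Subgroup ↥(MulAction.stabilizer M24 p ⊓ MulAction.stabilizer M24 q)) : H.index ≠ 56 ∧ H.index ≠ 210 := by
  obtain ⟨e⟩ := pairStabEquiv hpq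
  rw [← index_map_equiv H e]
  exact main _

end Cfsg.Lib.Classical.MTwentyTwo
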