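import Cfsg.Agent.Golay.M22BlockData

/-! Words in three normalising elements for generators of the stabiliser of two points. -/

namespace Cfsg.Lib.Classical.MTwentyTwo

open Cfsg.Lib.PermCert

/-- An element normalising a subgroup of order five. -/
def fiveConj : PP := (13828237077880992161368710940615971945474545968124475503614721937968658416565051379009151876424320142644986576896, 13828237077740999571230015915331687200239988175419405536037944044454747155217537090424542348338558848262849232896)

/-- An element of order five. -/
def fiveEl : PP := (13828393034527033748756856331609536638518049334519695275309908097860965705029899350307362358354636307315460407296, 13828356339809017237680282715337145108739826393443078167056500563039875371852581051166032355562163183955935952896)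

/-- Words for the generators. -/
def words : List (List ℕ) := [
  [3, 4, 5, 3, 5, 3, 5, 3, 2],
  [1, 3, 2, 0, 1, 5, 3, 4, 5, 0],
  [0, 2, 0, 2, 3, 2, 3, 4, 5, 0, 1],
  [1, 3, 1, 5, 0, 4, 5, 0, 5],
  [1, 0, 1, 2, 2, 0, 5, 0, 1, 2],
  [5, 4, 3, 4, 5, 3, 1]]

end Cfsg.Lib.Classical.MTwentyTwo
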